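import Mathlib
import Cfsg.Agent.Lib.NumberTheory.SylvesterSchur
import Cfsg.Agent.Lib.SymHall.Tools

/-!
Subgroups of the alternating group and elements of largest prime order dividing the index: some
such element has no conjugate in the subgroup.
-/

set_option autoImplicit false

namespace Cfsg.Agent.Lib.AltLargestPrime

open Equiv Subgroup MulAction
open scoped Pointwise

section

variable {α : Type*} [Fintype α] [DecidableEq α]

omit [Fintype α] [DecidableEq α] in
theorem perm_apply_inv (f : Perm α) (x : α) : f (f⁻¹ x) = x := Equiv.apply_symm_apply f x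

omit [Fintype α] [DecidableEq α] in
theorem perm_inv_apply (f : Perm α) (x : α) : f⁻¹ (f x) = x := Equiv.symm_apply_apply f x

theorem two_mul_le_of_sq_dvd_factorial {r m : ℕ} (hr : r.Prime) (h : r ^ 2 ∣ m.factorial) :
    2 * r ≤ m := by
  by_contra hlt
  have h' : r * r ∣ (2 * r - 1).factorial :=
    (sq r ▸ h).trans (Nat.factorial_dvd_factorial (by omega))
  have hr2 := hr.two_le
  rw [← Nat.factorial_mul_descFactorial (show r - 1 ≤ 2 * r - 1 by omega),
    show 2 * r - 1 - (r - 1) = r by omega, ← Nat.mul_factorial_pred hr.ne_zero, mul_assoc] at h'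
  have h'' := Nat.dvd_of_mul_dvd_mul_left hr.pos h'
  rcases hr.dvd_mul.1 h'' with h1 | h1
  · exact absurd (hr.dvd_factorial.1 h1) (by omega)
  · rw [Nat.descFactorial_eq_prod_range] at h1
    obtain ⟨i, hi, hd⟩ := (Prime.dvd_finsetProd_iff hr.prime _).1 h1
    rw [Finset.mem_range] at hi
    obtain ⟨u, hu⟩ := hd
    rcases Nat.lt_or_ge u 2 with hu' | hu'
    · interval_cases u <;> omega
    · have : r * 2 ≤ r * u := Nat.mul_le_mul_left r hu'
      omega

theorem mod_lt_of_dvd_choose {r m k : ℕ} (hr : r.Prime) (hkr : k < r) (hkm : k ≤ m)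
    (hd : r ∣ m.choose k) : m % r < k := by
  have h : r ∣ m.descFactorial k := by
    rw [Nat.descFactorial_eq_factorial_mul_choose]; exact hd.mul_left _
  rw [Nat.descFactorial_eq_prod_range] at h
  obtain ⟨i, hi, hdi⟩ := (Prime.dvd_finsetProd_iff hr.prime _).1 h
  rw [Finset.mem_range] at hi
  have him : i % r = m % r := (Nat.modEq_iff_dvd' (by omega)).2 hdi
  rw [Nat.mod_eq_of_lt (by omega)] at him
  omega

/-- The commutator of two cycles whose supports share one point. -/
theorem commutator_eq_swap_mul_swap {c d : Perm α} {a : α}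
    (h : c.support ∩ d.support = {a}) :
    c * d * c⁻¹ * d⁻¹ = swap a (d a) * swap a (c a) := by
  have hac : a ∈ c.support := (Finset.mem_inter.1 (h ▸ Finset.mem_singleton_self a : a ∈ c.support ∩ d.support)).1
  have had : a ∈ d.support := (Finset.mem_inter.1 (h ▸ Finset.mem_singleton_self a : a ∈ c.support ∩ d.support)).2
  have hc : ∀ x, x ∈ c.support → x ≠ a → d x = x ∧ d⁻¹ x = x := fun x hx hxa => by
    have : x ∉ d.support := fun hd => hxa (Finset.mem_singleton.1 (h ▸ Finset.mem_inter.2 ⟨hx, hd⟩))
    rw [Perm.notMem_support] at this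
    exact ⟨this, Perm.inv_eq_iff_eq.2 this.symm⟩
  have hd : ∀ x, x ∈ d.support → x ≠ a → c x = x ∧ c⁻¹ x = x := fun x hx hxa => by
    have : x ∉ c.support := fun hc => hxa (Finset.mem_singleton.1 (h ▸ Finset.mem_inter.2 ⟨hc, hx⟩))
    rw [Perm.notMem_support] at this
    exact ⟨this, Perm.inv_eq_iff_eq.2 this.symm⟩
  have hca : c a ≠ a := Perm.mem_support.1 hac
  have hda : d a ≠ a := Perm.mem_support.1 had
  have hcaS : c a ∈ c.support := Perm.apply_mem_support.2 hac
  have hdaS : d a ∈ d.support := Perm.apply_mem_support.2 had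
  ext x
  simp only [Perm.mul_apply]
  rcases eq_or_ne x a with rfl | hxa
  · have hy : d⁻¹ x ∈ d.support := by rwa [← Perm.apply_mem_support, perm_apply_inv]
    have hya : d⁻¹ x ≠ x := fun e => hda (Perm.inv_eq_iff_eq.1 e).symm
    rw [(hd _ hy hya).2, perm_apply_inv, Equiv.swap_apply_left,
      Equiv.swap_apply_of_ne_of_ne hca]
    intro e
    exact hca (Finset.mem_singleton.1 (h ▸ Finset.mem_inter.2 ⟨hcaS, e ▸ hdaS⟩))
  rcases eq_or_ne x (c a) with rfl | hxc
  · rw [(hc _ hcaS hca).2, perm_inv_apply, (hd _ hdaS hda).1, Equiv.swap_apply_right,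
      Equiv.swap_apply_left]
  rw [Equiv.swap_apply_of_ne_of_ne hxa hxc]
  rcases eq_or_ne x (d a) with rfl | hxd
  · have hia : c⁻¹ a ∈ c.support := by rwa [← Perm.apply_mem_support, perm_apply_inv]
    have hne : c⁻¹ a ≠ a := fun e => hca (Perm.inv_eq_iff_eq.1 e).symm
    rw [perm_inv_apply, (hc _ hia hne).1, perm_apply_inv, Equiv.swap_apply_right]
  rw [Equiv.swap_apply_of_ne_of_ne hxa hxd]
  by_cases hxC : x ∈ c.support
  · have hi : c⁻¹ x ∈ c.support := by rwa [← Perm.apply_mem_support, perm_apply_inv]
    have hne : c⁻¹ x ≠ a := fun e => hxc (by rw [← e, perm_apply_inv])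
    rw [(hc _ hxC hxa).2, (hc _ hi hne).1, perm_apply_inv]
  · by_cases hxD : x ∈ d.support
    · have hi : d⁻¹ x ∈ d.support := by rwa [← Perm.apply_mem_support, perm_apply_inv]
      have hne : d⁻¹ x ≠ a := fun e => hxd (by rw [← e, perm_apply_inv])
      rw [(hd _ hi hne).2, perm_apply_inv, (hd _ hxD hxa).1]
    · rw [Perm.notMem_support] at hxC hxD
      rw [Perm.inv_eq_iff_eq.2 hxD.symm, Perm.inv_eq_iff_eq.2 hxC.symm, hxD, hxC]

/-- A transitive group with a cycle of prime length above half the degree is primitive. -/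
theorem isPreprimitive_of_cycle {K : Subgroup (Perm α)} [IsPretransitive K α] {c : Perm α}
    (hcK : c ∈ K) (hc : c.IsCycle) (hp : c.support.card.Prime)
    (h2 : Fintype.card α < 2 * c.support.card) : IsPreprimitive K α := by
  haveI := Perm.isPretransitive_of_isCycle_mem hc hcK
  have hcard : Nat.card (SubMulAction.ofFixingSubgroup K (c.support : Set α)ᶜ) = c.support.card := by
    rw [← Fintype.card_coe, ← Nat.card_eq_fintype_card]
    exact Nat.card_congr (Equiv.subtypeEquivRight fun x => by simp [SubMulAction.mem_ofFixingSubgroup_iff])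
  haveI := IsPreprimitive.of_prime_card (G := fixingSubgroup K (c.support : Set α)ᶜ) (hcard.symm ▸ hp)
  let f : SubMulAction.ofFixingSubgroup K (c.support : Set α)ᶜ
      →ₑ[(fixingSubgroup K (c.support : Set α)ᶜ).subtype] α :=
    { toFun := Subtype.val
      map_smul' := fun _ _ => rfl }
  refine IsPreprimitive.of_card_lt (f := f) ?_
  rw [Set.ncard_range_of_injective (f := f) Subtype.val_injective, hcard, Nat.card_eq_fintype_card]
  exact h2

/-- Jordan: a primitive group with a cycle of odd prime length at most half the degree. -/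
theorem alternatingGroup_le_of_cycle {K : Subgroup (Perm α)} (hK : IsPreprimitive K α) {c : Perm α}
    (hcK : c ∈ K) (hc : c.IsCycle) (hp : c.support.card.Prime)
    (h2 : 2 * c.support.card ≤ Fintype.card α) (h3 : 3 ≤ c.support.card) :
    alternatingGroup α ≤ K := by
  set r := c.support.card with hr
  set m := Fintype.card α with hm
  haveI := Perm.isPretransitive_of_isCycle_mem hc hcK
  have hcard : Nat.card (SubMulAction.ofFixingSubgroup K (c.support : Set α)ᶜ) = r := by
    rw [hr, ← Fintype.card_coe, ← Nat.card_eq_fintype_card]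
    exact Nat.card_congr (Equiv.subtypeEquivRight fun x => by simp [SubMulAction.mem_ofFixingSubgroup_iff])
  haveI := IsPreprimitive.of_prime_card (G := fixingSubgroup K (c.support : Set α)ᶜ) (hcard.symm ▸ hp)
  have hs : ((c.support : Set α)ᶜ).ncard = (m - r - 1) + 1 := by
    rw [Set.ncard_compl, Set.ncard_coe_finset, Nat.card_eq_fintype_card]
    omega
  have hJ := hK.isMultiplyPreprimitive hs (by rw [Nat.card_eq_fintype_card]; omega) inferInstance
  haveI := hJ.isMultiplyPretransitive
  haveI hr' : IsMultiplyPretransitive K α r :=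
    isMultiplyPretransitive_of_le (n := m - r - 1 + 2) (by omega) (by rw [Nat.card_eq_fintype_card]; omega)
  obtain ⟨a, ha⟩ : c.support.Nonempty := Finset.card_pos.1 (by omega)
  obtain ⟨R, hR, hRc⟩ := Finset.exists_subset_card_eq (s := c.supportᶜ) (n := r - 1)
    (by rw [Finset.card_compl]; omega)
  have haR : a ∉ R := fun h => Finset.mem_compl.1 (hR h) ha
  set T := insert a R
  have hT : T.card = r := by rw [Finset.card_insert_of_notMem haR, hRc]; omega
  let x : Fin r ↪ α := (Finset.equivFinOfCardEq hr.symm).symm.toEmbedding.trans (Function.Embedding.subtype _)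
  let y : Fin r ↪ α := (Finset.equivFinOfCardEq hT).symm.toEmbedding.trans (Function.Embedding.subtype _)
  obtain ⟨g, hg⟩ := exists_smul_eq K x y
  have hmap : c.support.map (g : Perm α).toEmbedding = T := by
    refine Finset.eq_of_subset_of_card_le ?_ (by rw [Finset.card_map, hT])
    intro z hz
    obtain ⟨w, hw, rfl⟩ := Finset.mem_map.1 hz
    have e := congrArg (fun u : Fin r ↪ α => u (Finset.equivFinOfCardEq hr.symm ⟨w, hw⟩)) hg
    simp [x, y, Function.Embedding.smul_apply] at e
    rw [show (g : Perm α).toEmbedding w = g • w from rfl, e]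
    exact Subtype.coe_prop _
  set d := (g : Perm α) * c * (g : Perm α)⁻¹ with hd
  have hint : c.support ∩ d.support = {a} := by
    rw [hd, Perm.support_conj, hmap]
    ext z
    simp only [Finset.mem_inter, T, Finset.mem_insert, Finset.mem_singleton]
    exact ⟨fun ⟨h1, h⟩ => h.resolve_right fun h' => Finset.mem_compl.1 (hR h') h1,
      fun e => ⟨e ▸ ha, Or.inl e⟩⟩
  have hdK : d ∈ K := mul_mem (mul_mem g.2 hcK) (inv_mem g.2)
  have hmem : c * d * c⁻¹ * d⁻¹ ∈ K := mul_mem (mul_mem (mul_mem hcK hdK) (inv_mem hcK)) (inv_mem hdK)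
  rw [commutator_eq_swap_mul_swap hint] at hmem
  have had : a ∈ c.support ∩ d.support := hint ▸ Finset.mem_singleton_self a
  rw [Finset.mem_inter, Perm.mem_support, Perm.mem_support] at had
  refine Equiv.Perm.alternatingGroup_le_of_isPreprimitive_of_isThreeCycle_mem hK
    (Perm.isThreeCycle_swap_mul_swap_same had.2.symm had.1.symm ?_) hmem
  intro e
  have h1 : c a ∈ c.support ∩ d.support := Finset.mem_inter.2
    ⟨Perm.apply_mem_support.2 (Perm.mem_support.2 had.1), e ▸ Perm.apply_mem_support.2 (Perm.mem_support.2 had.2)⟩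
  rw [hint, Finset.mem_singleton] at h1
  exact had.1 h1

/-- A Sylow argument: elements of `p`-power order conjugate into a subgroup of index prime to `p`. -/
theorem exists_conj_mem_of_not_dvd_index {G : Type*} [Group G] [Finite G] {p : ℕ} [Fact p.Prime]
    (K : Subgroup G) (hK : ¬ p ∣ K.index) {x : G} {n : ℕ} (hx : orderOf x = p ^ n) :
    ∃ g : G, g * x * g⁻¹ ∈ K := by
  let P : Sylow p K := default
  have hpP : IsPGroup p ((P : Subgroup K).map K.subtype) := P.isPGroup'.map _
  have hnd : ¬ p ∣ ((P : Subgroup K).map K.subtype).index := by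
    rw [index_map_subtype]
    intro hd
    rcases (Fact.out : p.Prime).dvd_mul.1 hd with h | h
    · exact P.not_dvd_index h
    · exact hK h
  let Q : Sylow p G := hpP.toSylow hnd
  have hz : IsPGroup p (zpowers x) := IsPGroup.of_card (n := n) (by rw [Nat.card_zpowers, hx])
  obtain ⟨R, hR⟩ := hz.exists_le_sylow
  obtain ⟨g, hg⟩ := MulAction.exists_smul_eq G R Q
  refine ⟨g, ?_⟩
  have hmem : g * x * g⁻¹ ∈ (Q : Subgroup G) := by
    rw [← hg, Sylow.coe_subgroup_smul]
    exact ⟨x, hR (mem_zpowers _), rfl⟩
  exact map_subtype_le _ hmem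

end

section Main

variable {α : Type*} [Fintype α] [DecidableEq α]

theorem card_fixed_of_cycleType {y : Perm α} {j r : ℕ} (hy : y.cycleType = Multiset.replicate j r) :
    (y.supportᶜ).card = Fintype.card α - j * r := by
  rw [Finset.card_compl, ← Perm.sum_cycleType, hy, Multiset.sum_replicate, smul_eq_mul]

/-- A set of size below `r` invariant under an element of order `r` is fixed pointwise. -/
theorem subset_fixed {y : Perm α} {r : ℕ} (hr : r.Prime) (hy : y ^ r = 1) {S : Finset α}
    (hS : S.card < r) (hinv : y • S = S) : S ⊆ y.supportᶜ := by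
  intro x hx
  rw [Finset.mem_compl, Perm.notMem_support]
  by_contra hne
  have hcl : ∀ i, (y ^ i) x ∈ S := by
    intro i
    induction i with
    | zero => simpa using hx
    | succ i ih =>
      rw [pow_succ', Perm.mul_apply]
      have := Finset.smul_mem_smul_finset (a := y) ih
      rwa [hinv] at this
  have hper : MulAction.period y x = r := by
    have hd := MulAction.pow_smul_eq_iff_period_dvd.1 (show y ^ r • x = x by rw [hy, one_smul])
    rcases (Nat.dvd_prime hr).1 hd with h | h
    · exact absurd (MulAction.pow_period_smul y x) (by rw [h, pow_one]; exact hne)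
    · exact h
  have hinj : Set.InjOn (fun i => (y ^ i) x) (Finset.range r : Set ℕ) := by
    intro i hi j hj e
    simp only [Finset.coe_range, Set.mem_Iio] at hi hj
    wlog hle : i ≤ j generalizing i j
    · exact (this e.symm hj hi (le_of_not_ge hle)).symm
    obtain ⟨k, rfl⟩ := Nat.exists_eq_add_of_le hle
    have e' : (y ^ k) • x = x := by
      refine (y ^ i).injective ?_
      show (y ^ i) ((y ^ k) x) = (y ^ i) x
      rw [← Perm.mul_apply, ← pow_add]
      exact e.symm
    have := MulAction.pow_smul_eq_iff_period_dvd.1 e'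
    rw [hper] at this
    have := Nat.eq_zero_of_dvd_of_lt this (by omega)
    omega
  have := Finset.card_le_card (s := (Finset.range r).image fun i => (y ^ i) x) (t := S)
    (by intro z hz; obtain ⟨i, -, rfl⟩ := Finset.mem_image.1 hz; exact hcl i)
  rw [Finset.card_image_of_injOn hinj, Finset.card_range] at this
  omega

theorem sign_replicate {y : Perm α} {j r : ℕ} (hy : y.cycleType = Multiset.replicate j r)
    (h : Odd r ∨ (r = 2 ∧ Even j)) : y ∈ alternatingGroup α := by
  rw [Perm.mem_alternatingGroup, Perm.sign_of_cycleType, hy, Multiset.sum_replicate,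
    Multiset.card_replicate, smul_eq_mul]
  refine Even.neg_one_pow ?_
  rw [← Nat.mul_succ]
  rcases h with h | ⟨rfl, hj⟩
  · exact (Odd.add_odd h odd_one).mul_left j
  · exact hj.mul_right _

variable (K : Subgroup (alternatingGroup α))

/-- The point of the whole file. The last hypothesis is what maximality gives in the action. -/
theorem exists_not_conj_mem (hm : 5 ≤ Fintype.card α) (hK : K ≠ ⊤) {r : ℕ} (hr : r.Prime)
    (hrd : r ∣ K.index) (hmax : ∀ s : ℕ, s.Prime → s ∣ K.index → s ≤ r)
    (hset : Fintype.card α ≠ 6 → ∀ S : Finset α, 0 < S.card → 2 * S.card < Fintype.card α →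
      (∀ k ∈ K, ((k : alternatingGroup α) : Perm α) • S = S) →
      (∀ σ : Perm α, (∀ k ∈ K, MulAut.conjNormal σ k ∈ K) → σ • S = S) →
      K.index = (Fintype.card α).choose S.card) :
    ∃ x : alternatingGroup α, orderOf x = r ∧ ∀ g : alternatingGroup α, g * x * g⁻¹ ∉ K := by
  classical
  set m := Fintype.card α with hmdef
  haveI : Fact r.Prime := ⟨hr⟩
  haveI : Nontrivial α := Fintype.one_lt_card_iff_nontrivial.1 (by omega)
  have hcardA : 2 * Nat.card (alternatingGroup α) = m.factorial := by
    rw [two_mul_nat_card_alternatingGroup, Nat.card_perm, Nat.card_eq_fintype_card]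
  have hKA : Nat.card K * K.index = Nat.card (alternatingGroup α) := K.card_mul_index
  by_cases hrK : r ∣ Nat.card K
  swap
  · obtain ⟨x, hx⟩ := exists_prime_orderOf_dvd_card' r (hrd.trans (hKA ▸ dvd_mul_left _ _))
    refine ⟨x, hx, fun g hg => hrK ?_⟩
    have hord : orderOf (⟨g * x * g⁻¹, hg⟩ : K) = r := by
      rw [Subgroup.orderOf_mk, ← hx]
      exact (MulAut.conj g).orderOf_eq x
    exact hord ▸ orderOf_dvd_natCard _
  have h2r : 2 * r ≤ m := by
    refine two_mul_le_of_sq_dvd_factorial hr ?_
    rw [← hcardA, ← hKA, sq]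
    exact (Nat.mul_dvd_mul hrK hrd).mul_left 2
  -- a prime above half the degree
  obtain ⟨p, hp, hp1, hp2⟩ := Nat.exists_prime_lt_and_le_two_mul (m / 2) (by omega)
  haveI : Fact p.Prime := ⟨hp⟩
  have hpK : p ∣ Nat.card K := by
    have hd : p ∣ 2 * (Nat.card K * K.index) := by
      rw [hKA, hcardA]; exact hp.dvd_factorial.2 (by omega)
    rcases hp.dvd_mul.1 hd with h | h
    · have := Nat.le_of_dvd two_pos h
      have := hp.two_le
      omega
    rcases hp.dvd_mul.1 h with h | h
    · exact h
    · have := hmax p hp h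
      omega
  obtain ⟨⟨c, hcK⟩, hco⟩ := exists_prime_orderOf_dvd_card' p hpK
  rw [Subgroup.orderOf_mk, ← Subgroup.orderOf_coe] at hco
  set K' : Subgroup (Perm α) := K.map (alternatingGroup α).subtype with hK'
  have hcK' : (c : Perm α) ∈ K' := ⟨c, hcK, rfl⟩
  have hcyc : (c : Perm α).IsCycle :=
    Perm.isCycle_of_prime_order' (hco.symm ▸ hp) (by rw [hco, ← hmdef]; omega)
  have hsupp : (c : Perm α).support.card = p := by rw [← hcyc.orderOf, hco]
  have hconj : ∀ {x : alternatingGroup α} (g : alternatingGroup α),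
      ((g * x * g⁻¹ : alternatingGroup α) : Perm α).cycleType = (x : Perm α).cycleType := fun g => by
    rw [Subgroup.coe_mul, Subgroup.coe_mul, Subgroup.coe_inv, Perm.cycleType_conj]
  by_cases htr : IsPretransitive K' α
  · -- transitive, hence primitive
    haveI := htr
    have hprim : IsPreprimitive K' α := isPreprimitive_of_cycle hcK' hcyc (hsupp ▸ hp) (by omega)
    have hnot : ¬ alternatingGroup α ≤ K' := fun h => hK (eq_top_iff.2 fun x _ => by
      obtain ⟨z, hz, e⟩ := h x.2
      exact Subtype.ext e ▸ hz)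
    rcases eq_or_ne r 2 with rfl | hr2
    · exfalso
      obtain ⟨t, ht⟩ : ∃ t : Perm α, t.cycleType = Multiset.replicate 1 3 :=
        (Perm.exists_with_cycleType_iff α).2 ⟨by simp; omega, by simp⟩
      have htA : t ∈ alternatingGroup α := sign_replicate ht (Or.inl (by decide))
      have hto : orderOf (⟨t, htA⟩ : alternatingGroup α) = 3 ^ 1 := by
        rw [Subgroup.orderOf_mk, ← Perm.lcm_cycleType, ht]; simp
      haveI : Fact (Nat.Prime 3) := ⟨Nat.prime_three⟩
      obtain ⟨g, hg⟩ := exists_conj_mem_of_not_dvd_index K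
        (fun h => absurd (hmax 3 Nat.prime_three h) (by norm_num)) hto
      refine hnot (Equiv.Perm.alternatingGroup_le_of_isPreprimitive_of_isThreeCycle_mem hprim
        (g := ((g * ⟨t, htA⟩ * g⁻¹ : alternatingGroup α) : Perm α)) ?_ ⟨_, hg, rfl⟩)
      show _ = _
      rw [hconj, ht]; rfl
    · obtain ⟨t, ht⟩ : ∃ t : Perm α, t.cycleType = Multiset.replicate 1 r :=
        (Perm.exists_with_cycleType_iff α).2 ⟨by simp; omega, by simp; exact hr.two_le⟩
      have htA : t ∈ alternatingGroup α := sign_replicate ht (Or.inl (hr.odd_of_ne_two hr2))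
      refine ⟨⟨t, htA⟩, by rw [Subgroup.orderOf_mk, ← Perm.lcm_cycleType, ht]; simp, fun g hg => hnot ?_⟩
      set y : Perm α := ((g * ⟨t, htA⟩ * g⁻¹ : alternatingGroup α) : Perm α)
      have hyt : y.cycleType = {r} := by rw [hconj, ht]; rfl
      have hys : y.support.card = r := by rw [← Perm.sum_cycleType, hyt, Multiset.sum_singleton]
      exact alternatingGroup_le_of_cycle hprim (show y ∈ K' from ⟨_, hg, rfl⟩)
        (Perm.card_cycleType_eq_one.1 (by rw [hyt, Multiset.card_singleton]))
        (hys ▸ hr) (by omega) (by rw [hys]; have := hr.two_le; omega)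
  · -- intransitive: the complement of the large orbit
    obtain ⟨a, ha⟩ := hcyc.nonempty_support
    set Sg : Finset α := (orbit K' a).toFinset with hSg
    have hsub : (c : Perm α).support ⊆ Sg := fun x hx => by
      obtain ⟨i, hi⟩ := hcyc.exists_zpow_eq (Perm.mem_support.1 ha) (Perm.mem_support.1 hx)
      rw [hSg, Set.mem_toFinset]
      exact ⟨⟨(c : Perm α) ^ i, zpow_mem hcK' i⟩, hi⟩
    have hbig : m < 2 * Sg.card := by
      have := Finset.card_le_card hsub
      omega
    set S : Finset α := Sgᶜ with hS
    have hScard : S.card = m - Sg.card := by rw [hS, Finset.card_compl]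
    have hSpos : 0 < S.card := by
      rw [Finset.card_pos]
      by_contra he
      rw [Finset.not_nonempty_iff_eq_empty, hS, Finset.compl_eq_empty_iff] at he
      exact htr (isPretransitive_iff_orbit_eq_univ a |>.2 (by
        rw [← Set.coe_toFinset (orbit K' a), ← hSg, he, Finset.coe_univ]))
    have hSle : 2 * S.card < m := by omega
    have hSgC : ∀ σ : Perm α, σ • Sg = Sg → σ • S = S := fun σ h => by
      ext z
      rw [hS, Finset.mem_compl, ← Finset.inv_smul_mem_iff, Finset.mem_compl, Finset.inv_smul_mem_iff, h]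
    have hKS : ∀ k ∈ K, ((k : alternatingGroup α) : Perm α) • S = S := fun k hk => by
      refine hSgC _ (Finset.coe_injective ?_)
      rw [Finset.coe_smul_finset, hSg, Set.coe_toFinset]
      exact smul_orbit (⟨_, k, hk, rfl⟩ : K') a
    have hNS : ∀ σ : Perm α, (∀ k ∈ K, MulAut.conjNormal σ k ∈ K) → σ • S = S := fun σ hσ => by
      refine hSgC _ ?_
      obtain ⟨z, hz⟩ : ((σ • Sg) ∩ Sg).Nonempty := by
        rw [← Finset.card_pos]
        have h1 := Finset.card_union_add_card_inter (σ • Sg) Sg
        have h2 := Finset.card_le_univ ((σ • Sg) ∪ Sg)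
        rw [Finset.card_smul_finset] at h1
        omega
      obtain ⟨hz1, hz2⟩ := Finset.mem_inter.1 hz
      refine Finset.eq_of_subset_of_card_le (fun w hw => ?_) (by rw [Finset.card_smul_finset])
      obtain ⟨u, hu, rfl⟩ := Finset.mem_smul_finset.1 hw
      obtain ⟨v, hv, rfl⟩ := Finset.mem_smul_finset.1 hz1
      simp only [hSg, Set.mem_toFinset] at hu hv hz2 ⊢
      rw [← orbit_eq_iff] at hv hz2
      rw [← hz2]
      rw [← hv] at hu
      obtain ⟨⟨_, k, hk, rfl⟩, hkv⟩ := hu
      refine ⟨⟨_, _, hσ k hk, rfl⟩, ?_⟩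
      show (MulAut.conjNormal σ k : Perm α) (σ v) = σ u
      rw [MulAut.conjNormal_apply, Perm.mul_apply, Perm.mul_apply, perm_inv_apply]
      exact congrArg σ hkv
    -- the set stabiliser
    set W := stabilizer (Perm α) S with hW
    have hWodd : ∃ σ ∈ W, Perm.sign σ = -1 := by
      obtain ⟨u, hu, v, hv, huv⟩ := Finset.one_lt_card.1 (show 1 < Sg.card by omega)
      refine ⟨swap u v, SymHall.swap_mem_stabilizer S (Or.inr ?_), Perm.sign_swap huv⟩
      rw [hS, Finset.mem_compl, Finset.mem_compl, not_not, not_not]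
      exact ⟨hu, hv⟩
    have hidx : (W.subgroupOf (alternatingGroup α)).index = m.choose S.card := by
      rw [hmdef, ← SymHall.index_stabilizer_finset, ← SymHall.relIndex_inf_eq le_rfl hWodd,
        Subgroup.inf_relIndex_right]
      rfl
    have hKW : K ≤ W.subgroupOf (alternatingGroup α) := fun k hk => hKS k hk
    have hdvd : m.choose S.card ∣ K.index := hidx ▸ Subgroup.index_dvd_of_le hKW
    obtain ⟨q, hq, hkq, hqd⟩ :=
      SylvesterSchur.exists_prime_gt_dvd_choose (m := m) (k := S.card) hSpos hSle.le
    have hqr : q ≤ r := hmax q hq (hqd.trans hdvd)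
    -- `r` divides the binomial coefficient
    have hrC : r ∣ m.choose S.card := by
      by_cases h6 : m = 6
      · have hr3 : r ≤ 3 := by omega
        have hk1 : S.card = 1 := by
          have hq3 : q ≤ 3 := hqr.trans hr3
          have := hp.two_le
          have : p = 5 := by
            have : p ≤ 6 := by omega
            interval_cases p <;> first | rfl | omega | exact absurd hp (by norm_num)
          have := Finset.card_le_card hsub
          omega
        rw [h6, hk1, Nat.choose_one_right]
        interval_cases r <;> first | (norm_num; done) | norm_num at hr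
      · rw [← hset h6 S hSpos hSle hKS hNS]
        exact hrd
    have hkr : S.card < r := by omega
    have hmod := mod_lt_of_dvd_choose hr hkr (by omega) hrC
    set j := m / r with hj
    have hjr : j * r ≤ m := Nat.div_mul_le_self m r
    obtain ⟨t, ht⟩ : ∃ t : Perm α, t.cycleType = Multiset.replicate j r :=
      (Perm.exists_with_cycleType_iff α).2 ⟨by rw [Multiset.sum_replicate, smul_eq_mul]; exact hjr,
        fun n hn => (Multiset.eq_of_mem_replicate hn) ▸ hr.two_le⟩
    have hj0 : 0 < j := Nat.div_pos (by omega) hr.pos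
    have hpar : Odd r ∨ (r = 2 ∧ Even j) := by
      rcases hr.eq_two_or_odd' with rfl | h
      · refine Or.inr ⟨rfl, ?_⟩
        -- `m` is a power of `2`
        have hk1 : S.card = 1 := by omega
        rw [hk1, Nat.choose_one_right] at hrC hdvd
        obtain ⟨e, he⟩ : ∃ e, m = 2 ^ e := by
          refine ⟨_, Nat.eq_prime_pow_of_unique_prime_dvd (by omega) fun {d} hd hdm => ?_⟩
          have := hmax d hd (hdm.trans hdvd)
          have := hd.two_le
          omega
        rcases e with _ | _ | e
        · omega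
        · omega
        · refine ⟨2 ^ e, ?_⟩
          rw [hj, he, pow_succ, pow_succ, Nat.mul_div_cancel _ two_pos]
          ring
      · exact Or.inl h
    have htA : t ∈ alternatingGroup α := sign_replicate ht hpar
    have hto : orderOf t = r := by
      rw [← Perm.lcm_cycleType, ht]
      exact Nat.dvd_antisymm (Multiset.lcm_dvd.2 fun b hb => (Multiset.eq_of_mem_replicate hb).dvd)
        (Multiset.dvd_lcm (Multiset.mem_replicate.2 ⟨hj0.ne', rfl⟩))
    refine ⟨⟨t, htA⟩, by rw [Subgroup.orderOf_mk, hto], fun g hg => ?_⟩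
    set y : Perm α := ((g * ⟨t, htA⟩ * g⁻¹ : alternatingGroup α) : Perm α)
    have hyt : y.cycleType = Multiset.replicate j r := by rw [hconj, ht]
    have hy : y ^ r = 1 := by
      have : orderOf y = orderOf t := by rw [← Perm.lcm_cycleType, ← Perm.lcm_cycleType, hyt, ht]
      rw [← hto, ← this]; exact pow_orderOf_eq_one y
    have h1 := Finset.card_le_card (subset_fixed hr hy hkr (hKS _ hg))
    rw [card_fixed_of_cycleType hyt, ← hmdef] at h1
    have : m % r = m - j * r := by
      have h := Nat.mod_add_div m r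
      rw [mul_comm r] at h
      rw [← hj] at h
      omega
    omega

end Main

end Cfsg.Agent.Lib.AltLargestPrime
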